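import Cfsg.Agent.H896.DP.FixTwo

/-!
# Common fixed points of lifts of commuting elements (helper896 for helper370; task 1354)
-/

set_option autoImplicit false
set_option linter.unusedSectionVars false

namespace Cfsg.Agent.H896.DP

open Finset Subgroup Cfsg.Agent.H370
open Cfsg.Agent.H370.LemF (cj cj_apply cj_pow mem_normalizer_of_forall)
open scoped Pointwise

/-- lifting an element of order `p` not dividing the order of the kernel -/
theorem exists_pow_lift {X Z : Type*} [Group X] [Finite X] [Group Z] (f : X →* Z) {p : ℕ} (hp : p.Prime)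
    (hpk : ¬ p ∣ Nat.card f.ker) {n : X} (hn : orderOf (f n) = p) : ∃ e : ℕ, orderOf (n ^ e) = p ∧ f (n ^ e) = f n := by
  have : Fact p.Prime := ⟨hp⟩
  have h1 : n ^ p ∈ f.ker := by
    rw [MonoidHom.mem_ker, map_pow, ← hn, pow_orderOf_eq_one]
  have h2 : orderOf (n ^ p) ∣ Nat.card f.ker := by
    have h3 := orderOf_dvd_natCard (⟨n ^ p, h1⟩ : f.ker)
    rwa [Subgroup.orderOf_mk] at h3
  have hcop : Nat.Coprime p (orderOf (n ^ p)) := (Nat.Prime.coprime_iff_not_dvd hp).2 fun h => hpk (h.trans h2)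
  obtain ⟨e, he1, he2⟩ := Nat.chineseRemainder hcop 1 0
  have hf : f (n ^ e) = f n := by
    rw [map_pow]
    have h3 : e ≡ 1 [MOD orderOf (f n)] := by rw [hn]; exact he1
    have h4 := pow_eq_pow_iff_modEq.2 h3
    rwa [pow_one] at h4
  refine ⟨e, ?_, hf⟩
  have h5 : (n ^ e) ^ p = 1 := by
    rw [← pow_mul, mul_comm e p, pow_mul, ← orderOf_dvd_iff_pow_eq_one]
    exact (Nat.modEq_zero_iff_dvd).1 he2
  have h6 : n ^ e ≠ 1 := by
    intro h
    rw [h, map_one] at hf
    rw [← hf, orderOf_one] at hn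
    exact hp.one_lt.ne hn
  exact orderOf_eq_prime h5 h6

/-- coprime action: lifting elements centralising `x` modulo `N` -/
theorem exists_mul_commute {X : Type*} [Group X] [Finite X] {p : ℕ} (hp : p.Prime) {N : Subgroup X} (hNn : N.Normal)
    (hN : ¬ p ∣ Nat.card N) {x g : X} (hx : x ^ p = 1) (hg : x * g * x⁻¹ * g⁻¹ ∈ N) :
    ∃ n ∈ N, (n * g) * x = x * (n * g) := by
  have : Fact p.Prime := ⟨hp⟩
  have hg' : x⁻¹ * g * x * g⁻¹ ∈ N := by
    have h1 := hNn.conj_mem _ (inv_mem hg) x⁻¹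
    have h2 : x⁻¹ * (x * g * x⁻¹ * g⁻¹)⁻¹ * x⁻¹⁻¹ = x⁻¹ * g * x * g⁻¹ := by group
    rwa [h2] at h1
  have hm1 : ∀ n ∈ N, x * n * g * x⁻¹ * g⁻¹ ∈ N := by
    intro n hn
    have h1 : x * n * g * x⁻¹ * g⁻¹ = (x * n * x⁻¹) * (x * g * x⁻¹ * g⁻¹) := by group
    rw [h1]
    exact mul_mem (hNn.conj_mem n hn x) hg
  have hm2 : ∀ n ∈ N, x⁻¹ * n * g * x * g⁻¹ ∈ N := by
    intro n hn
    have h1 : x⁻¹ * n * g * x * g⁻¹ = (x⁻¹ * n * x⁻¹⁻¹) * (x⁻¹ * g * x * g⁻¹) := by group
    rw [h1]
    exact mul_mem (hNn.conj_mem n hn x⁻¹) hg'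
  let σ : Equiv.Perm N :=
    { toFun := fun n => ⟨x * n * g * x⁻¹ * g⁻¹, hm1 n n.2⟩
      invFun := fun n => ⟨x⁻¹ * n * g * x * g⁻¹, hm2 n n.2⟩
      left_inv := by
        intro n
        apply Subtype.ext
        change x⁻¹ * (x * n * g * x⁻¹ * g⁻¹) * g * x * g⁻¹ = (n : X)
        group
      right_inv := by
        intro n
        apply Subtype.ext
        change x * (x⁻¹ * n * g * x * g⁻¹) * g * x⁻¹ * g⁻¹ = (n : X)
        group }
  have hσ : ∀ k : ℕ, ∀ n : N, (((σ ^ k) n : N) : X) = x ^ k * n * g * (x ^ k)⁻¹ * g⁻¹ := by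
    intro k
    induction k with
    | zero => intro n; simp
    | succ k ih =>
      intro n
      rw [pow_succ', pow_succ' x]
      change ((σ ((σ ^ k) n) : N) : X) = _
      change x * ((σ ^ k) n : N) * g * x⁻¹ * g⁻¹ = _
      rw [ih]
      group
  have hσp : σ ^ p ^ 1 = 1 := by
    ext n
    rw [pow_one, hσ, hx]
    simp
  have := Fintype.ofFinite N
  obtain ⟨n, hn⟩ := Equiv.Perm.exists_fixed_point_of_prime (p := p) (n := 1) (by rwa [← Nat.card_eq_fintype_card]) hσp
  refine ⟨n, n.2, ?_⟩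
  have h1 : x * (n : X) * g * x⁻¹ * g⁻¹ = n := congrArg Subtype.val hn
  calc (n : X) * g * x = (x * (n : X) * g * x⁻¹ * g⁻¹) * g * x := by rw [h1]
    _ = x * (n * g) := by group

/-- an invariant Sylow 2-subgroup -/
theorem exists_inv_sylow {X : Type*} [Group X] [Finite X] {p : ℕ} (hp : p.Prime) {P : Subgroup X}
    (hP : ¬ p ∣ Nat.card P) {x : X} (hx : x ^ p = 1) (hxP : x ∈ normalizer (P : Set X)) :
    ∃ T : Sylow 2 P, ∀ q ∈ (T : Subgroup P).map P.subtype, x * q * x⁻¹ ∈ (T : Subgroup P).map P.subtype := by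
  have : Fact p.Prime := ⟨hp⟩
  have : Fact (Nat.Prime 2) := ⟨Nat.prime_two⟩
  let α : MulAut P := cj hxP
  have hα : α ^ p = 1 := by
    ext l
    rw [cj_pow, hx]
    simp
  let σ : Equiv.Perm (Sylow 2 P) := MulAction.toPermHom (MulAut P) (Sylow 2 P) α
  have hσ : σ ^ p ^ 1 = 1 := by
    rw [pow_one, ← map_pow, hα, map_one]
  have := Fintype.ofFinite (Sylow 2 P)
  have hcard : ¬ p ∣ Fintype.card (Sylow 2 P) := by
    intro h
    rw [← Nat.card_eq_fintype_card] at h
    obtain ⟨T0⟩ : Nonempty (Sylow 2 P) := inferInstance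
    exact hP (h.trans (T0.card_dvd_index.trans (Subgroup.index_dvd_card _)))
  obtain ⟨T, hT⟩ := Equiv.Perm.exists_fixed_point_of_prime (p := p) (n := 1) hcard hσ
  refine ⟨T, ?_⟩
  rintro _ ⟨q, hq, rfl⟩
  have h1 : α • T = T := hT
  have h2 : α • q ∈ (α • T : Sylow 2 P) := by
    have h3 : α • q ∈ α • (T : Subgroup P) := Subgroup.smul_mem_pointwise_smul _ _ _ hq
    exact h3
  rw [h1] at h2
  exact ⟨α • q, h2, rfl⟩

theorem card_comap_dvd {X Z : Type*} [Group X] [Finite X] [Group Z] (f : X →* Z) (Q : Subgroup Z) :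
    Nat.card (Q.comap f) ∣ Nat.card f.ker * Nat.card (Q ⊓ f.range : Subgroup Z) := by
  let g : Q.comap f →* Z := f.comp (Q.comap f).subtype
  have h1 : Nat.card (Q.comap f) = Nat.card g.ker * Nat.card g.range := by
    rw [← Subgroup.card_mul_index g.ker, Subgroup.index_ker]
  rw [h1]
  apply mul_dvd_mul
  · have h2 : g.ker.map (Q.comap f).subtype ≤ f.ker := by
      rintro _ ⟨a, ha, rfl⟩
      exact ha
    have h3 : Nat.card (g.ker.map (Q.comap f).subtype) = Nat.card g.ker :=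
      (Nat.card_congr (g.ker.equivMapOfInjective _ (Subgroup.subtype_injective _)).toEquiv).symm
    rw [← h3]
    exact card_dvd_of_le h2
  · have h4 : g.range ≤ Q ⊓ f.range := by
      rintro _ ⟨a, rfl⟩
      exact ⟨a.2, ⟨a, rfl⟩⟩
    exact card_dvd_of_le h4

/-- the first element -/
theorem fix_one {X V Z : Type*} [Group X] [Finite X] [CommGroup V] [Finite V] [Nontrivial V] [Group Z] (θ : X →* MulAut V)
    {r : ℕ} (hr : r.Prime) (hr2 : r ≠ 2) (hV : ∀ v : V, v ^ r = 1) (f : X →* Z)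
    {S : Subgroup Z} (hS : IsSimpleGroup S) (hrange : S ≤ f.range) {p : ℕ} (hp : p.Prime)
    (hpo : Odd (orderOf (2 : ZMod p))) (hpk : ¬ p ∣ Nat.card f.ker) {Q : Subgroup Z} (hQS : Q ≤ S)
    (hQ : IsPGroup 2 Q) {y : Z} (hy : y ∈ S) (hyo : orderOf y = p) (hyQ : ∀ q ∈ Q, y * q * y⁻¹ ∈ Q)
    (hne : ∃ q ∈ Q, y * q ≠ q * y) :
    ∃ x : X, f x = y ∧ orderOf x = p ∧ ∃ v : V, v ≠ 1 ∧ θ x v = v := by
  have : Fact (Nat.Prime 2) := ⟨Nat.prime_two⟩
  have : Fact p.Prime := ⟨hp⟩
  let N : Subgroup X := S.comap f ⊓ θ.ker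
  have hmapS : N.map f ≤ S := by
    rintro _ ⟨n, hn, rfl⟩
    exact hn.1
  have hN' : ((N.map f).subgroupOf S).Normal := by
    refine ⟨fun a ha g => ?_⟩
    rw [mem_subgroupOf] at ha ⊢
    obtain ⟨n, hn, hna⟩ := ha
    obtain ⟨h, hh⟩ := hrange g.2
    refine ⟨h * n * h⁻¹, ⟨?_, ?_⟩, ?_⟩
    · change f (h * n * h⁻¹) ∈ S
      rw [map_mul, map_mul, map_inv, hh]
      exact mul_mem (mul_mem g.2 hn.1) (inv_mem g.2)
    · exact (MonoidHom.normal_ker θ).conj_mem n hn.2 h
    · rw [map_mul, map_mul, map_inv, hh, hna]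
      rfl
  rcases hN'.eq_bot_or_eq_top with hb | ht
  · -- the case `f(N) = 1`
    obtain ⟨n, hn⟩ := hrange hy
    obtain ⟨e, he1, he2⟩ := exists_pow_lift f hp hpk (n := n) (by rw [hn, hyo])
    rw [hn] at he2
    set x := n ^ e with hx
    have hxp : x ^ p = 1 := by rw [← he1, pow_orderOf_eq_one]
    let P : Subgroup X := Q.comap f
    have hxP : x ∈ normalizer (P : Set X) := by
      apply mem_normalizer_of_forall
      intro w hw
      change f (x * w * x⁻¹) ∈ Q
      rw [map_mul, map_mul, map_inv, he2]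
      exact hyQ _ hw
    have hPcard : ¬ p ∣ Nat.card P := by
      intro h
      have h1 := h.trans (card_comap_dvd f Q)
      rcases (Nat.Prime.dvd_mul hp).1 h1 with h2 | h2
      · exact hpk h2
      · have hQr : Q ⊓ f.range = Q := inf_eq_left.2 (hQS.trans hrange)
        rw [hQr] at h2
        have hfin : Finite Q := by
          have h3 : Finite f.range := Finite.of_surjective f.rangeRestrict f.rangeRestrict_surjective
          exact Finite.of_injective (Subgroup.inclusion (hQS.trans hrange)) (Subgroup.inclusion_injective _)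
        obtain ⟨k, hk⟩ := IsPGroup.iff_card.1 hQ
        rw [hk] at h2
        have h3 := hp.dvd_of_dvd_pow h2
        have h4 := (Nat.prime_dvd_prime_iff_eq hp Nat.prime_two).1 h3
        have h5 := coprime_two hp hpo
        rw [h4] at h5
        exact absurd h5 (by decide)
    obtain ⟨T, hT⟩ := exists_inv_sylow hp hPcard hxp hxP
    -- `f T = Q`
    let g : P →* Q := (f.comp P.subtype).codRestrict Q fun a => a.2
    have hg : Function.Surjective g := by
      intro q
      obtain ⟨a, ha⟩ := (hQS.trans hrange) q.2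
      exact ⟨⟨a, by change f a ∈ Q; rw [ha]; exact q.2⟩, Subtype.ext ha⟩
    have hfinQ : Finite Q := Finite.of_surjective g hg
    have hTtop : (T : Subgroup P).map g = ⊤ := by
      have h1 : ((T : Subgroup P).map g).index ∣ (T : Subgroup P).index := by
        exact Subgroup.index_map_dvd _ hg
      have h2 : ¬ 2 ∣ (T : Subgroup P).index := T.not_dvd_index
      have h3 : ¬ 2 ∣ ((T : Subgroup P).map g).index := fun h => h2 (h.trans h1)
      obtain ⟨k, hk⟩ := IsPGroup.iff_card.1 hQ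
      have h4 : ((T : Subgroup P).map g).index ∣ 2 ^ k := hk ▸ Subgroup.index_dvd_card _
      obtain ⟨j, -, hj⟩ := (Nat.dvd_prime_pow Nat.prime_two).1 h4
      rw [hj] at h3
      rw [← Subgroup.index_eq_one, hj]
      rcases Nat.eq_zero_or_pos j with h5 | h5
      · rw [h5, pow_zero]
      · exact absurd (dvd_pow_self 2 h5.ne') h3
    obtain ⟨q, hq, hyq⟩ := hne
    obtain ⟨t, ht, htq⟩ : (⟨q, hq⟩ : Q) ∈ (T : Subgroup P).map g := hTtop ▸ mem_top _
    have hft : f (t : X) = q := congrArg Subtype.val htq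
    have hne2 : ∃ v : V, θ (x * (t : X) * x⁻¹ * (t : X)⁻¹) v ≠ v := by
      by_contra hno
      push Not at hno
      have h1 : x * (t : X) * x⁻¹ * (t : X)⁻¹ ∈ N := by
        refine ⟨?_, ?_⟩
        · change f _ ∈ S
          rw [map_mul, map_mul, map_mul, map_inv, map_inv, he2, hft]
          exact mul_mem (mul_mem (mul_mem hy (hQS hq)) (inv_mem hy)) (inv_mem (hQS hq))
        · change x * (t : X) * x⁻¹ * (t : X)⁻¹ ∈ θ.ker
          rw [MonoidHom.mem_ker]
          ext v
          exact hno v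
      have h2 : f (x * (t : X) * x⁻¹ * (t : X)⁻¹) ∈ N.map f := ⟨_, h1, rfl⟩
      have h3 : (⟨f (x * (t : X) * x⁻¹ * (t : X)⁻¹), hmapS h2⟩ : S) ∈ (N.map f).subgroupOf S := h2
      rw [hb, mem_bot] at h3
      have h4 : f (x * (t : X) * x⁻¹ * (t : X)⁻¹) = 1 := congrArg Subtype.val h3
      rw [map_mul, map_mul, map_mul, map_inv, map_inv, he2, hft] at h4
      apply hyq
      calc y * q = (y * q * y⁻¹ * q⁻¹) * (q * y) := by group
        _ = q * y := by rw [h4, one_mul]
    obtain ⟨v, hv1, hv2⟩ := fix_two θ hr hr2 hV hp hpo (Q := (T : Subgroup P).map P.subtype)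
      (T.isPGroup'.map _) hxp hT ⟨(t : X), ⟨t, ht, rfl⟩, hne2⟩
    exact ⟨x, he2, he1, v, hv1, hv2⟩
  · -- the case `f(N) = S`
    have h1 : (⟨y, hy⟩ : S) ∈ (N.map f).subgroupOf S := ht ▸ mem_top _
    obtain ⟨n, hn, hny⟩ := mem_subgroupOf.1 h1
    change f n = y at hny
    obtain ⟨e, he1, he2⟩ := exists_pow_lift f hp hpk (n := n) (by rw [hny, hyo])
    obtain ⟨v, hv⟩ := exists_ne (1 : V)
    refine ⟨n ^ e, by rw [he2, hny], he1, v, hv, ?_⟩
    have h2 : n ^ e ∈ θ.ker := pow_mem hn.2 e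
    rw [MonoidHom.mem_ker] at h2
    rw [h2]
    rfl

theorem fix_all {k : ℕ} {X V Z : Type*} [Group X] [Finite X] [CommGroup V] [Finite V] [Nontrivial V] [Group Z]
    (θ : X →* MulAut V)
    {r : ℕ} (hr : r.Prime) (hr2 : r ≠ 2) (hV : ∀ v : V, v ^ r = 1) (f : X →* Z) (hker : Group.IsSolvable f.ker)
    (S : Fin k → Subgroup Z) (hS : ∀ j, IsSimpleGroup (S j)) (hcomm : ∀ i j, i ≠ j → ∀ a ∈ S i, ∀ b ∈ S j, a * b = b * a)
    (hrange : ∀ j, S j ≤ f.range) (p : Fin k → ℕ) (hp : ∀ j, (p j).Prime) (hpo : ∀ j, Odd (orderOf (2 : ZMod (p j))))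
    (hpk : ∀ j, ¬ p j ∣ Nat.card f.ker) (Q : Fin k → Subgroup Z) (hQS : ∀ j, Q j ≤ S j) (hQ : ∀ j, IsPGroup 2 (Q j))
    (y : Fin k → Z) (hy : ∀ j, y j ∈ S j) (hyo : ∀ j, orderOf (y j) = p j) (hyQ : ∀ j, ∀ q ∈ Q j, y j * q * (y j)⁻¹ ∈ Q j)
    (hne : ∀ j, ∃ q ∈ Q j, y j * q ≠ q * y j) :
    ∃ x : Fin k → X, (∀ i j, x i * x j = x j * x i) ∧ (∀ j, f (x j) ∈ S j ∧ orderOf (x j) = p j) ∧
      ∃ v : V, v ≠ 1 ∧ ∀ j, θ (x j) v = v := by
  induction k generalizing X V with
  | zero =>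
    obtain ⟨v, hv⟩ := exists_ne (1 : V)
    exact ⟨fun i => i.elim0, fun i => i.elim0, fun i => i.elim0, v, hv, fun i => i.elim0⟩
  | succ k ih =>
    obtain ⟨x0, hx0f, hx0o, v0, hv0, hxv0⟩ := fix_one θ hr hr2 hV f (hS 0) (hrange 0) (hp 0) (hpo 0) (hpk 0) (hQS 0) (hQ 0)
      (hy 0) (hyo 0) (hyQ 0) (hne 0)
    have hx0p : x0 ^ p 0 = 1 := by rw [← hx0o, pow_orderOf_eq_one]
    -- the centraliser of `x0`
    let X' : Subgroup X := centralizer {x0}
    let V' : Subgroup V :=
      { carrier := {v | θ x0 v = v}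
        one_mem' := map_one _
        mul_mem' := by
          intro a b ha hb
          change θ x0 (a * b) = a * b
          rw [map_mul, (ha : θ x0 a = a), (hb : θ x0 b = b)]
        inv_mem' := by
          intro a ha
          change θ x0 a⁻¹ = a⁻¹
          rw [map_inv, (ha : θ x0 a = a)] }
    have hVX : ∀ g : X', ∀ v ∈ V', θ g v ∈ V' := by
      intro g v hv
      change θ x0 (θ g v) = θ g v
      have h1 : x0 * g = g * x0 := (mem_centralizer_singleton_iff.1 g.2).symm
      have h2 : θ x0 (θ g v) = θ (x0 * g) v := by rw [map_mul]; rfl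
      rw [h2, h1, map_mul]
      change θ g (θ x0 v) = _
      rw [(hv : θ x0 v = v)]
    let ρ : X' → MulAut V' := fun g =>
      { toFun := fun v => ⟨θ g v, hVX g v v.2⟩
        invFun := fun v => ⟨θ (g⁻¹ : X') v, hVX g⁻¹ v v.2⟩
        left_inv := by
          intro v
          apply Subtype.ext
          change θ ((g⁻¹ : X') : X) (θ g v) = v
          have : θ ((g⁻¹ : X') : X) (θ g v) = θ (((g⁻¹ : X') : X) * g) v := by rw [map_mul]; rfl
          rw [this, ← Subgroup.coe_mul, inv_mul_cancel, Subgroup.coe_one, map_one]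
          rfl
        right_inv := by
          intro v
          apply Subtype.ext
          change θ g (θ ((g⁻¹ : X') : X) v) = v
          have : θ g (θ ((g⁻¹ : X') : X) v) = θ ((g : X) * ((g⁻¹ : X') : X)) v := by rw [map_mul]; rfl
          rw [this, ← Subgroup.coe_mul, mul_inv_cancel, Subgroup.coe_one, map_one]
          rfl
        map_mul' := by
          intro a b
          apply Subtype.ext
          exact map_mul (θ g) (a : V) b }
    let θ' : X' →* MulAut V' := MonoidHom.mk' ρ (by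
      intro a b
      ext v
      change θ ((a * b : X') : X) v = θ a (θ b v)
      rw [Subgroup.coe_mul, map_mul]
      rfl)
    have hθ' : ∀ g : X', ∀ v : V', ((θ' g v : V') : V) = θ g v := fun _ _ => rfl
    let f' : X' →* Z := f.comp X'.subtype
    have hkmap : f'.ker.map X'.subtype ≤ f.ker := by
      rintro _ ⟨a, ha, rfl⟩
      exact ha
    have hker' : Group.IsSolvable f'.ker := by
      have h1 : Group.IsSolvable (f'.ker.map X'.subtype) := Group.isSolvable_of_isSolvable_injective (Subgroup.inclusion_injective hkmap)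
      exact Group.isSolvable_of_isSolvable_injective
        (f := (f'.ker.equivMapOfInjective _ (Subgroup.subtype_injective X')).toMonoidHom)
        (f'.ker.equivMapOfInjective _ (Subgroup.subtype_injective X')).injective
    have hkd : Nat.card f'.ker ∣ Nat.card f.ker := by
      have h3 : Nat.card (f'.ker.map X'.subtype) = Nat.card f'.ker :=
        (Nat.card_congr (f'.ker.equivMapOfInjective _ (Subgroup.subtype_injective _)).toEquiv).symm
      rw [← h3]
      exact card_dvd_of_le hkmap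
    have hrange' : ∀ j : Fin k, S j.succ ≤ f'.range := by
      intro j z hz
      obtain ⟨g, hg⟩ := hrange j.succ hz
      have hc : y 0 * z = z * y 0 := hcomm 0 j.succ (Fin.succ_ne_zero j).symm _ (hy 0) _ hz
      have h1 : x0 * g * x0⁻¹ * g⁻¹ ∈ f.ker := by
        rw [MonoidHom.mem_ker, map_mul, map_mul, map_mul, map_inv, map_inv, hx0f, hg, hc]
        group
      obtain ⟨n, hn, hng⟩ := exists_mul_commute (hp 0) (MonoidHom.normal_ker f) (hpk 0) hx0p h1
      refine ⟨⟨n * g, mem_centralizer_singleton_iff.2 hng⟩, ?_⟩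
      change f (n * g) = z
      rw [map_mul, MonoidHom.mem_ker.1 hn, one_mul, hg]
    have hnt : Nontrivial V' := ⟨⟨v0, hxv0⟩, 1, fun h => hv0 (congrArg Subtype.val h)⟩
    obtain ⟨x, hx1, hx2, v, hv1, hv2⟩ := ih θ' (fun v => Subtype.ext (hV v)) f' hker' (fun j => S j.succ) (fun j => hS j.succ)
      (fun i j hij => hcomm i.succ j.succ (fun h => hij (Fin.succ_injective _ h))) hrange' (fun j => p j.succ)
      (fun j => hp j.succ) (fun j => hpo j.succ) (fun j h => hpk j.succ (h.trans hkd)) (fun j => Q j.succ)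
      (fun j => hQS j.succ) (fun j => hQ j.succ) (fun j => y j.succ) (fun j => hy j.succ) (fun j => hyo j.succ)
      (fun j => hyQ j.succ) (fun j => hne j.succ)
    have hcx : ∀ j, x0 * (x j : X) = x j * x0 := fun j => (mem_centralizer_singleton_iff.1 (x j).2).symm
    refine ⟨Fin.cons x0 (fun j => (x j : X)), ?_, ?_, (v : V), fun h => hv1 (Subtype.ext h), ?_⟩
    · intro i j
      refine Fin.cases ?_ (fun i => ?_) i <;> refine Fin.cases ?_ (fun j => ?_) j
      · rfl
      · rw [Fin.cons_zero, Fin.cons_succ]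
        exact hcx j
      · rw [Fin.cons_zero, Fin.cons_succ]
        exact (hcx i).symm
      · rw [Fin.cons_succ, Fin.cons_succ]
        exact congrArg Subtype.val (hx1 i j)
    · intro j
      refine Fin.cases ?_ (fun j => ?_) j
      · rw [Fin.cons_zero]
        exact ⟨by rw [hx0f]; exact hy 0, hx0o⟩
      · rw [Fin.cons_succ]
        refine ⟨(hx2 j).1, ?_⟩
        rw [Subgroup.orderOf_coe]
        exact (hx2 j).2
    · intro j
      refine Fin.cases ?_ (fun j => ?_) j
      · rw [Fin.cons_zero]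
        exact v.2
      · rw [Fin.cons_succ, ← hθ', hv2 j]

end Cfsg.Agent.H896.DP
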