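import Mathlib

/-!
# Fixed point free elements of prime order `p`, `2` of odd order modulo `p`, acting on elementary abelian 2-groups
(helper896 for helper370, S3624/S3451)
-/

set_option autoImplicit false
set_option linter.unusedSectionVars false

namespace Cfsg.Agent.H896.DP

open Finset

section ring

variable {R : Type*} [Ring R] (h2 : (2 : R) = 0) (x : R)

include h2 in
theorem sum_sq {ι : Type*} (e : ι → ℕ) (S : Finset ι) : (∑ k ∈ S, x ^ e k) ^ 2 = ∑ k ∈ S, x ^ (2 * e k) := by
  classical
  induction S using Finset.induction_on with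
  | empty => simp
  | insert a S ha ih =>
    rw [Finset.sum_insert ha, Finset.sum_insert ha, ← ih]
    have hc : Commute (x ^ e a) (∑ k ∈ S, x ^ e k) :=
      Commute.sum_right _ _ _ fun k _ => Commute.pow_pow_self x (e a) (e k)
    have h3 : (x ^ e a + ∑ k ∈ S, x ^ e k) ^ 2 =
        (x ^ e a) ^ 2 + 2 * (x ^ e a * ∑ k ∈ S, x ^ e k) + (∑ k ∈ S, x ^ e k) ^ 2 := by
      rw [pow_two, pow_two, pow_two, mul_add, add_mul, add_mul, hc.eq]
      noncomm_ring
    rw [h3, h2, zero_mul, add_zero, ← pow_mul, mul_comm (e a) 2]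

variable {p : ℕ} [hp : Fact p.Prime] (hx : x ^ p = 1)

include hx in
theorem pow_val (n : ℕ) : x ^ ((n : ZMod p)).val = x ^ n := by
  rw [ZMod.val_natCast]
  conv_rhs => rw [← Nat.div_add_mod n p, pow_add, pow_mul, hx, one_pow, one_mul]

include hx in
theorem pow_val_add (a b : ZMod p) : x ^ (a + b).val = x ^ a.val * x ^ b.val := by
  have h : a + b = ((a.val + b.val : ℕ) : ZMod p) := by
    rw [Nat.cast_add, ZMod.natCast_zmod_val, ZMod.natCast_zmod_val]
  rw [h, pow_val x hx, pow_add]

/-- the period: the sum of `x ^ (a 2^j)` over `j` modulo the order of `2` -/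
noncomputable def theta (p : ℕ) (a : ZMod p) : R := ∑ j ∈ range (orderOf (2 : ZMod p)), x ^ (a * 2 ^ j).val

include h2 hx in
theorem theta_sq (a : ZMod p) (hm : 0 < orderOf (2 : ZMod p)) : theta x p a ^ 2 = theta x p a := by
  unfold theta
  rw [sum_sq h2]
  have h1 : ∀ j : ℕ, x ^ (2 * (a * 2 ^ j).val) = x ^ (a * 2 ^ (j + 1)).val := by
    intro j
    have h : a * 2 ^ (j + 1) = ((2 * (a * 2 ^ j).val : ℕ) : ZMod p) := by
      rw [Nat.cast_mul, ZMod.natCast_zmod_val, Nat.cast_ofNat, pow_succ]
      ring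
    rw [h, pow_val x hx]
  rw [Finset.sum_congr rfl (fun j _ => h1 j)]
  obtain ⟨m, hm'⟩ : ∃ m, orderOf (2 : ZMod p) = m + 1 := ⟨_, (Nat.succ_pred_eq_of_pos hm).symm⟩
  rw [hm', Finset.sum_range_succ (fun j => x ^ (a * 2 ^ (j + 1)).val), Finset.sum_range_succ' (fun j => x ^ (a * 2 ^ j).val)]
  rw [← hm', pow_orderOf_eq_one, pow_zero]

include hx in
/-- the sum of all periods -/
theorem sum_theta (h2 : (2 : R) = 0) (hodd : Odd (orderOf (2 : ZMod p))) :
    ∑ a ∈ univ.filter (fun a : ZMod p => a ≠ 0), theta x p a = ∑ a ∈ univ.filter (fun a : ZMod p => a ≠ 0), x ^ a.val := by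
  unfold theta
  rw [Finset.sum_comm]
  have h20 : (2 : ZMod p) ≠ 0 := by
    intro h
    rw [h] at hodd
    have : orderOf (0 : ZMod p) = 0 := by
      rw [orderOf_eq_zero_iff']
      intro n hn h0
      rw [zero_pow hn.ne'] at h0
      exact zero_ne_one h0
    rw [this] at hodd
    exact absurd hodd (by decide)
  have h1 : ∀ j ∈ range (orderOf (2 : ZMod p)), ∑ a ∈ univ.filter (fun a : ZMod p => a ≠ 0), x ^ (a * 2 ^ j).val =
      ∑ a ∈ univ.filter (fun a : ZMod p => a ≠ 0), x ^ a.val := by
    intro j _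
    have h2j : (2 : ZMod p) ^ j ≠ 0 := pow_ne_zero j h20
    refine Finset.sum_bij (fun a _ => a * 2 ^ j) ?_ ?_ ?_ ?_
    · intro a ha
      rw [mem_filter] at ha ⊢
      exact ⟨mem_univ _, mul_ne_zero ha.2 h2j⟩
    · intro a _ b _ h
      exact mul_right_cancel₀ h2j h
    · intro b hb
      rw [mem_filter] at hb
      refine ⟨b * ((2 : ZMod p) ^ j)⁻¹, ?_, ?_⟩
      · rw [mem_filter]
        exact ⟨mem_univ _, mul_ne_zero hb.2 (inv_ne_zero h2j)⟩
      · rw [mul_assoc, inv_mul_cancel₀ h2j, mul_one]
    · intro a _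
      rfl
  rw [Finset.sum_congr rfl h1, Finset.sum_const, card_range]
  obtain ⟨m, hm⟩ := hodd
  rw [hm, add_smul, one_smul, mul_smul, two_nsmul, ← two_mul, h2, zero_mul, zero_add]

include hx in
theorem sum_all : ∑ k ∈ range p, x ^ k = 1 + ∑ a ∈ univ.filter (fun a : ZMod p => a ≠ 0), x ^ a.val := by
  have h1 : ∑ k ∈ range p, x ^ k = ∑ a : ZMod p, x ^ a.val := by
    refine Finset.sum_bij (fun k _ => (k : ZMod p)) (fun _ _ => mem_univ _) ?_ ?_ ?_
    · intro a ha b hb h
      rw [mem_range] at ha hb
      have h3 := congrArg ZMod.val h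
      rwa [ZMod.val_natCast, ZMod.val_natCast, Nat.mod_eq_of_lt ha, Nat.mod_eq_of_lt hb] at h3
    · intro b _
      exact ⟨b.val, mem_range.2 (ZMod.val_lt b), ZMod.natCast_zmod_val b⟩
    · intro k _
      rw [pow_val x hx]
  rw [h1, ← Finset.sum_filter_add_sum_filter_not univ (fun a : ZMod p => a ≠ 0), add_comm]
  congr 1
  have h3 : univ.filter (fun a : ZMod p => ¬ a ≠ 0) = {0} := by
    ext a
    simp
  rw [h3, Finset.sum_singleton, ZMod.val_zero, pow_zero]

include hx in
theorem theta_neg (a : ZMod p) :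
    theta x p (-a) = ∑ j ∈ range (orderOf (2 : ZMod p)), x ^ (p - (a * 2 ^ j).val) := by
  unfold theta
  apply Finset.sum_congr rfl
  intro j _
  have h : -a * 2 ^ j = ((p - (a * 2 ^ j).val : ℕ) : ZMod p) := by
    rw [Nat.cast_sub (ZMod.val_lt _).le, ZMod.natCast_zmod_val, ZMod.natCast_self]
    ring
  rw [h, pow_val x hx]

end ring

theorem endo_key {p : ℕ} (hp : p.Prime) (hodd : Odd (orderOf (2 : ZMod p))) {V : Type*} [AddCommGroup V]
    (hV : ∀ v : V, v + v = 0) (x : AddMonoid.End V) (hx : x ^ p = 1)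
    (hfix : ∀ v, x v = v → v = 0) (hirr : ∀ W : AddSubgroup V, (∀ w ∈ W, x w ∈ W) → W = ⊥ ∨ W = ⊤) :
    ∃ S : Finset ℕ, (∀ k ∈ S, k ≤ p) ∧ (∑ k ∈ S, x ^ k = 0) ∧ (∑ k ∈ S, x ^ (p - k) = 1) := by
  have : Fact p.Prime := ⟨hp⟩
  have h2 : (2 : AddMonoid.End V) = 0 := by
    ext v
    rw [← one_add_one_eq_two]
    exact hV v
  rcases subsingleton_or_nontrivial V with hs | hs
  · refine ⟨∅, by simp, by simp, ?_⟩
    ext v
    exact Subsingleton.elim _ _
  have hN : ∑ k ∈ range p, x ^ k = 0 := by
    ext v
    apply hfix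
    have h3 := mul_geom_sum x p
    rw [hx, sub_self, sub_mul, one_mul, sub_eq_zero] at h3
    exact congrArg (fun f : AddMonoid.End V => f v) h3
  have hm : 0 < orderOf (2 : ZMod p) := hodd.pos
  have hneg : ∀ a : AddMonoid.End V, a + a = 0 := fun a => by rw [← two_mul, h2, zero_mul]
  -- each period is 0 or 1
  have h01 : ∀ a : ZMod p, theta x p a = 0 ∨ theta x p a = 1 := by
    intro a
    have hsq := theta_sq h2 x hx a hm
    have hcomm : x * theta x p a = theta x p a * x := by
      unfold theta
      exact Commute.sum_right _ _ _ fun k _ => (Commute.refl x).pow_right _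
    set θ := theta x p a with hθ
    let W : AddSubgroup V :=
      { carrier := {v | θ v = 0}
        zero_mem' := map_zero θ
        add_mem' := by
          intro a b ha hb
          change θ (a + b) = 0
          rw [map_add, ha, hb, add_zero]
        neg_mem' := by
          intro a ha
          change θ (-a) = 0
          rw [map_neg, ha, neg_zero] }
    have hker := hirr W (by
      intro w hw
      have hw' : θ w = 0 := hw
      have h3 : θ (x w) = x (θ w) := congrArg (fun f : AddMonoid.End V => f w) hcomm.symm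
      change θ (x w) = 0
      rw [h3, hw', map_zero])
    rcases hker with h3 | h3
    · right
      ext v
      have h5 : θ (θ v - v) = 0 := by
        rw [map_sub, sub_eq_zero]
        exact congrArg (fun f : AddMonoid.End V => f v) ((pow_two θ).symm.trans hsq)
      have h6 : θ v - v ∈ W := h5
      rw [h3, AddSubgroup.mem_bot, sub_eq_zero] at h6
      exact h6
    · left
      ext v
      have : v ∈ W := by rw [h3]; exact AddSubgroup.mem_top v
      exact this
  have hne10 : (1 : AddMonoid.End V) ≠ 0 := by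
    intro h
    obtain ⟨v, hv⟩ := exists_ne (0 : V)
    exact hv (congrArg (fun f : AddMonoid.End V => f v) h)
  -- the sum of all periods is 1
  have hsum : ∑ a ∈ univ.filter (fun a : ZMod p => a ≠ 0), theta x p a = 1 := by
    rw [sum_theta x hx h2 hodd]
    have h3 := sum_all x hx
    rw [hN] at h3
    have h4 : (∑ a ∈ univ.filter (fun a : ZMod p => a ≠ 0), x ^ a.val) = -1 := by
      rw [eq_neg_iff_add_eq_zero, add_comm]; exact h3.symm
    rw [h4, neg_eq_iff_add_eq_zero, hneg]
  -- some period differs from its negative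
  have hex : ∃ a : ZMod p, theta x p a = 0 ∧ theta x p (-a) = 1 := by
    by_contra hno
    push Not at hno
    have heq : ∀ a : ZMod p, theta x p a = theta x p (-a) := by
      intro a
      rcases h01 a with h3 | h3
      · rcases h01 (-a) with h4 | h4
        · rw [h3, h4]
        · exact absurd h4 (hno a h3)
      · rcases h01 (-a) with h4 | h4
        · exact absurd (by rw [neg_neg]; exact h3) (hno (-a) h4)
        · rw [h3, h4]
    have h0 : ∑ a ∈ univ.filter (fun a : ZMod p => a ≠ 0), theta x p a = 0 := by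
      refine Finset.sum_involution (fun a _ => -a) ?_ ?_ ?_ ?_
      · intro a _
        rw [← heq, hneg]
      · intro a ha _ hna
        rw [mem_filter] at ha
        apply ha.2
        have h5 : (2 : ZMod p) * a = 0 := by
          rw [two_mul]
          nth_rewrite 1 [← hna]
          rw [neg_add_cancel]
        rcases mul_eq_zero.1 h5 with h6 | h6
        · exfalso
          rw [h6] at hodd
          have : orderOf (0 : ZMod p) = 0 := by
            rw [orderOf_eq_zero_iff']
            intro n hn h0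
            rw [zero_pow hn.ne'] at h0
            exact zero_ne_one h0
          rw [this] at hodd
          exact absurd hodd (by decide)
        · exact h6
      · intro a ha
        rw [mem_filter] at ha ⊢
        exact ⟨mem_univ _, neg_ne_zero.2 ha.2⟩
      · intro a _
        exact neg_neg a
    rw [hsum] at h0
    exact hne10 h0
  obtain ⟨a, ha0, ha1⟩ := hex
  have ha : a ≠ 0 := by
    rintro rfl
    rw [neg_zero, ha0] at ha1
    exact hne10 ha1.symm
  have hinj : Set.InjOn (fun j : ℕ => (a * 2 ^ j).val) (range (orderOf (2 : ZMod p)) : Set ℕ) := by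
    intro i hi j hj hij
    rw [mem_coe, mem_range] at hi hj
    have h3 : a * 2 ^ i = a * 2 ^ j := ZMod.val_injective p hij
    have h4 := mul_left_cancel₀ ha h3
    exact pow_injOn_Iio_orderOf hi hj h4
  refine ⟨(range (orderOf (2 : ZMod p))).image (fun j => (a * 2 ^ j).val), ?_, ?_, ?_⟩
  · intro k hk
    obtain ⟨j, _, rfl⟩ := mem_image.1 hk
    exact (ZMod.val_lt _).le
  · rw [Finset.sum_image hinj]
    exact ha0
  · rw [Finset.sum_image hinj, ← theta_neg x hx]
    exact ha1

end Cfsg.Agent.H896.DP
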